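import Cfsg.Agent.Lib.H6.M11TC.Facts

set_option autoImplicit false
set_option maxRecDepth 1000000

/-! # mask of live nodes of M11 (generated) -/

namespace Cfsg.Agent.Lib.H6.M11TC

open Cfsg.Agent.Lib.H17.CosetCert Cfsg.Agent.Lib.H6.TC

/-- bit mask of the live nodes -/
def mask : ℕ := 0x200000000000000000800000000000000400000100000000000010020000280000000001200018000208000218401862001000000000806100002800000400030000811c000800022080440c0001a400000021400180018e000cc5b81901900d0002121e000c00046003000cce034c204420666001c80000004c01e0018c007c9e0a2c813980fee0e00198c7b0021dcf039d46bfcf01f000402f443e018c42ffc7f42ef9fbfe5e7ef8f9fba67dfefa7c0107f0ef019b1fe9fc7f3ffbe7f8fffbffffb82fcfc1bdfaf9effffcffffffefcf1fffdffff7fffffeefffffffffffffffffffffffffffffffff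

end Cfsg.Agent.Lib.H6.M11TC
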